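import Mathlib
import Groth.Agent.Lib.Helper7.CAlg.EtaleResidue

set_option backward.isDefEq.respectTransparency.types false
set_option autoImplicit false
set_option synthInstance.maxHeartbeats 400000
set_option maxHeartbeats 4000000
set_option linter.style.haveILetI false
set_option linter.unusedSectionVars false
set_option linter.unusedVariables false
set_option linter.unusedSimpArgs false
set_option linter.unnecessarySimpa false

/-!
# Fields of definition of field-valued points of schemes

For a morphism `ξ : Spec K ⟶ X` with `K` a field we consider the image in `K` of the residue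
field of the image point, and prove the basic properties needed for the proof of S10601.
-/

universe u
open AlgebraicGeometry CategoryTheory

namespace Groth.Agent.Helper2.UnivInj

/-- the embedding of the residue field attached to a field-valued point -/
noncomputable abbrev emb {X : Scheme.{u}} {K : Type u} [Field K] (ξ : Spec (.of K) ⟶ X) :
    X.residueField (ξ (IsLocalRing.closedPoint K)) ⟶ CommRingCat.of K :=
  X.descResidueField (Scheme.stalkClosedPointTo ξ)

/-- field of definition of a field-valued point -/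
noncomputable def fod {X : Scheme.{u}} {K : Type u} [Field K] (ξ : Spec (.of K) ⟶ X) :
    Subfield K :=
  (emb ξ).hom.fieldRange

theorem emb_comp {X Y : Scheme.{u}} {K : Type u} [Field K] (ξ : Spec (.of K) ⟶ X) (φ : X ⟶ Y) :
    emb (ξ ≫ φ) = φ.residueFieldMap (ξ (IsLocalRing.closedPoint K)) ≫ emb ξ :=
  Scheme.descResidueField_stalkClosedPointTo_comp φ ξ

theorem fod_comp_le {X Y : Scheme.{u}} {K : Type u} [Field K] (ξ : Spec (.of K) ⟶ X)
    (φ : X ⟶ Y) : fod (ξ ≫ φ) ≤ fod ξ := by
  intro z hz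
  obtain ⟨y, rfl⟩ := hz
  refine ⟨(φ.residueFieldMap (ξ (IsLocalRing.closedPoint K))).hom y, ?_⟩
  have h := emb_comp ξ φ
  have h2 := congrArg (fun f => f.hom y) h
  exact h2.symm

theorem isIntegralElem_of_mem_fod {X Y : Scheme.{u}} (φ : X ⟶ Y) [FormallyUnramified φ]
    [LocallyOfFiniteType φ] {Ω : Type u} [Field Ω] (ρ : Spec (.of Ω) ⟶ X) (z : Ω)
    (hz : z ∈ fod ρ) : (emb (ρ ≫ φ)).hom.IsIntegralElem z := by
  obtain ⟨y, rfl⟩ := hz
  obtain ⟨r, hr⟩ : ∃ r, r = ρ (IsLocalRing.closedPoint Ω) := ⟨_, rfl⟩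
  letI : Algebra (Y.residueField (φ (ρ (IsLocalRing.closedPoint Ω))))
      (X.residueField (ρ (IsLocalRing.closedPoint Ω))) :=
    (φ.residueFieldMap (ρ (IsLocalRing.closedPoint Ω))).hom.toAlgebra
  haveI : Algebra.IsSeparable (Y.residueField (φ (ρ (IsLocalRing.closedPoint Ω))))
      (X.residueField (ρ (IsLocalRing.closedPoint Ω))) := inferInstance
  have hy : IsIntegral (Y.residueField (φ (ρ (IsLocalRing.closedPoint Ω)))) y :=
    Algebra.IsSeparable.isIntegral _ y
  obtain ⟨p, hp, hpy⟩ := hy
  refine ⟨p, hp, ?_⟩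
  have h1 : (emb (ρ ≫ φ)).hom =
      (emb ρ).hom.comp (φ.residueFieldMap (ρ (IsLocalRing.closedPoint Ω))).hom :=
    (congrArg CommRingCat.Hom.hom (emb_comp ρ φ)).trans rfl
  have h2 : Polynomial.eval₂ (emb (ρ ≫ φ)).hom ((emb ρ).hom y) p =
      Polynomial.eval₂ ((emb ρ).hom.comp (φ.residueFieldMap (ρ (IsLocalRing.closedPoint Ω))).hom)
        ((emb ρ).hom y) p :=
    congrArg (fun f : ↑(Y.residueField (φ (ρ (IsLocalRing.closedPoint Ω)))) →+* Ω =>
      Polynomial.eval₂ f ((emb ρ).hom y) p) h1
  refine h2.trans ?_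
  rw [← Polynomial.hom_eval₂]
  have : Polynomial.eval₂ (φ.residueFieldMap (ρ (IsLocalRing.closedPoint Ω))).hom y p = 0 := hpy
  rw [this, map_zero]

theorem fod_spec {B K : Type u} [CommRing B] [Field K] (φ : B →+* K) :
    fod (Spec.map (CommRingCat.ofHom φ)) = Subfield.closure (Set.range φ) := by
  obtain ⟨ξ, hξ⟩ : ∃ ξ : Spec (.of K) ⟶ Spec (.of B), ξ = Spec.map (CommRingCat.ofHom φ) :=
    ⟨_, rfl⟩
  rw [← hξ]
  obtain ⟨x, hx⟩ : ∃ x, x = ξ (IsLocalRing.closedPoint K) := ⟨_, rfl⟩
  let iso := Scheme.Spec.residueFieldIso (CommRingCat.of B) (ξ (IsLocalRing.closedPoint K))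
  let e' : (ξ (IsLocalRing.closedPoint K)).asIdeal.ResidueField →+* K := (iso.inv ≫ emb ξ).hom
  have hfac : e'.comp (algebraMap B (ξ (IsLocalRing.closedPoint K)).asIdeal.ResidueField) = φ := by
    have h1 : Spec.map (emb ξ) ≫
        (Spec (.of B)).fromSpecResidueField (ξ (IsLocalRing.closedPoint K)) = ξ :=
      Scheme.descResidueField_stalkClosedPointTo_fromSpecResidueField K _ ξ
    rw [← Scheme.Spec.map_residueFieldIso_inv_eq_fromSpecResidueField, ← Spec.map_comp,
      ← Spec.map_comp] at h1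
    have h2 := Spec.map_injective (h1.trans hξ)
    have h3 := congrArg CommRingCat.Hom.hom h2
    exact h3
  have hrange : ∀ z : K, z ∈ fod ξ ↔
      ∃ w : (ξ (IsLocalRing.closedPoint K)).asIdeal.ResidueField, e' w = z := by
    intro z
    constructor
    · rintro ⟨y, rfl⟩
      refine ⟨iso.hom.hom y, ?_⟩
      have h := congrArg (fun f => (emb ξ).hom (f.hom y)) iso.hom_inv_id
      exact h
    · rintro ⟨w, rfl⟩
      exact ⟨iso.inv.hom w, rfl⟩
  apply le_antisymm
  · intro z hz
    obtain ⟨w, rfl⟩ := (hrange z).1 hz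
    obtain ⟨a, s, hs, hws⟩ :=
      Groth.Agent.Helper7.EtaleRes.exists_frac (ξ (IsLocalRing.closedPoint K)).asIdeal w
    have h1 : φ s * e' w = φ a := by
      have := congrArg e' hws
      rw [map_mul] at this
      rw [← hfac]
      exact this
    have hs0 : φ s ≠ 0 := by
      rw [← hfac]
      show e' (algebraMap B _ s) ≠ 0
      rw [Ne, map_eq_zero, Ideal.algebraMap_residueField_eq_zero]
      exact hs
    have h2 : e' w = φ a / φ s := by
      rw [eq_div_iff hs0, mul_comm]
      exact h1
    rw [h2]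
    exact Subfield.div_mem _ (Subfield.subset_closure ⟨a, rfl⟩) (Subfield.subset_closure ⟨s, rfl⟩)
  · rw [Subfield.closure_le]
    rintro _ ⟨b, rfl⟩
    refine (hrange _).2 ⟨algebraMap B _ b, ?_⟩
    have := congrArg (fun f => f b) hfac
    exact this

end Groth.Agent.Helper2.UnivInj
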