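import Mathlib
import Groth.Agent.Lib.Helper2.UnivInj.Fod

set_option backward.isDefEq.respectTransparency.types false
set_option autoImplicit false
set_option synthInstance.maxHeartbeats 400000
set_option maxHeartbeats 4000000
set_option linter.style.haveILetI false
set_option linter.unusedSectionVars false
set_option linter.unusedVariables false
set_option linter.unusedSimpArgs false
set_option linter.unnecessarySimpa false

/-!
# The scheme-theoretic core of S10601

Affine schemes `Spec Ba`, `Spec Bb` of finite type over `Spec A0`, and a "relation" scheme `R`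
with maps `s`, `t` (with `s` etale).  Under the hypothesis `Hyp` (coming from injectivity on points
after every etale base change) any two geometric points of `Spec Ba`, `Spec Bb` over the same
geometric point of `Spec A0` are related by a geometric point of `R` (after a field extension).
-/

universe u
open AlgebraicGeometry CategoryTheory

namespace Groth.Agent.Helper2.UnivInj

/-- two ring homs from a residue field agreeing on the ring are equal -/
theorem residueField_hom_ext {A : Type u} [CommRing A] (p : Ideal A) [p.IsPrime] {Ω : Type u}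
    [Field Ω] (f g : p.ResidueField →+* Ω)
    (h : f.comp (algebraMap A p.ResidueField) = g.comp (algebraMap A p.ResidueField)) :
    f = g := by
  refine RingHom.ext fun w => ?_
  obtain ⟨a, s, hs, hws⟩ := Groth.Agent.Helper7.EtaleRes.exists_frac p w
  have h1 : f (algebraMap A _ s) * f w = f (algebraMap A _ a) := by rw [← map_mul, hws]
  have h2 : g (algebraMap A _ s) * g w = g (algebraMap A _ a) := by rw [← map_mul, hws]
  have e1 : f (algebraMap A _ s) = g (algebraMap A _ s) := congrArg (fun φ => φ s) h
  have e2 : f (algebraMap A _ a) = g (algebraMap A _ a) := congrArg (fun φ => φ a) h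
  have hs0 : g (algebraMap A p.ResidueField s) ≠ 0 := by
    rw [Ne, map_eq_zero, Ideal.algebraMap_residueField_eq_zero]
    exact hs
  rw [e1, e2] at h1
  exact mul_left_cancel₀ hs0 (h1.trans h2.symm)

/-- existence of a geometric point with algebraic coordinates in a nonempty fibre of a morphism
of finite type -/
theorem exists_algebraic_point {A0 Ba K : Type u} [CommRing A0] [CommRing Ba] [Field K]
    [IsAlgClosed K] (ha : A0 →+* Ba) (hfa : ha.FiniteType) (α : Ba →+* K)
    (p : Ideal A0) [p.IsPrime] (ι : p.ResidueField →+* K)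
    (hι : ι.comp (algebraMap A0 p.ResidueField) = α.comp ha) :
    ∃ α1 : Ba →+* K, α1.comp ha = α.comp ha ∧
      ∀ a : Ba, @IsIntegral p.ResidueField K _ _ ι.toAlgebra (α1 a) := by
  classical
  letI : Algebra A0 Ba := ha.toAlgebra
  letI : Algebra p.ResidueField K := ι.toAlgebra
  letI : Algebra A0 K := (α.comp ha).toAlgebra
  haveI : IsScalarTower A0 p.ResidueField K := IsScalarTower.of_algebraMap_eq (fun x => by
    show (α.comp ha) x = ι (algebraMap A0 _ x)
    rw [← hι]; rfl)
  haveI : Algebra.FiniteType A0 Ba := hfa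
  let αA : Ba →ₐ[A0] K := { α with commutes' := fun x => rfl }
  let ιA : p.ResidueField →ₐ[A0] K := IsScalarTower.toAlgHom A0 p.ResidueField K
  let θ : TensorProduct A0 p.ResidueField Ba →ₐ[A0] K :=
    Algebra.TensorProduct.lift ιA αA (fun _ _ => mul_comm _ _)
  haveI : Nontrivial (TensorProduct A0 p.ResidueField Ba) := θ.toRingHom.domain_nontrivial
  obtain ⟨m, hm⟩ := Ideal.exists_maximal (TensorProduct A0 p.ResidueField Ba)
  letI : Field (TensorProduct A0 p.ResidueField Ba ⧸ m) := Ideal.Quotient.field m
  haveI : Algebra.FiniteType p.ResidueField (TensorProduct A0 p.ResidueField Ba) :=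
    Algebra.FiniteType.baseChange _
  haveI : Algebra.FiniteType p.ResidueField (TensorProduct A0 p.ResidueField Ba ⧸ m) :=
    Algebra.FiniteType.of_surjective (Ideal.Quotient.mkₐ p.ResidueField m)
      (Ideal.Quotient.mkₐ_surjective _ _)
  haveI : Module.Finite p.ResidueField (TensorProduct A0 p.ResidueField Ba ⧸ m) :=
    finite_of_finite_type_of_isJacobsonRing _ _
  haveI : Algebra.IsAlgebraic p.ResidueField (TensorProduct A0 p.ResidueField Ba ⧸ m) :=
    Algebra.IsAlgebraic.of_finite _ _
  let σ : (TensorProduct A0 p.ResidueField Ba ⧸ m) →ₐ[p.ResidueField] K := IsAlgClosed.lift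
  let inc : Ba →ₐ[A0] TensorProduct A0 p.ResidueField Ba := Algebra.TensorProduct.includeRight
  refine ⟨σ.toRingHom.comp ((Ideal.Quotient.mk m).comp inc.toRingHom), ?_, ?_⟩
  · ext x
    show σ (Ideal.Quotient.mk m (inc (algebraMap A0 Ba x))) = algebraMap A0 K x
    rw [inc.commutes, IsScalarTower.algebraMap_apply A0 p.ResidueField
      (TensorProduct A0 p.ResidueField Ba)]
    have h1 : Ideal.Quotient.mk m (algebraMap p.ResidueField (TensorProduct A0 p.ResidueField Ba)
        (algebraMap A0 p.ResidueField x)) =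
        algebraMap p.ResidueField (TensorProduct A0 p.ResidueField Ba ⧸ m)
          (algebraMap A0 p.ResidueField x) := rfl
    rw [h1, σ.commutes, ← IsScalarTower.algebraMap_apply A0 p.ResidueField K]
  · intro a
    exact IsIntegral.map σ (Algebra.IsIntegral.isIntegral _)

section Core

variable {A0 Ba Bb : Type u} [CommRing A0] [CommRing Ba] [CommRing Bb]
  (ha : A0 →+* Ba) (hb : A0 →+* Bb)
  {R : Scheme.{u}} (s : R ⟶ Spec (.of Ba)) (t : R ⟶ Spec (.of Bb))

/-- the hypothesis coming from injectivity on points after etale base change -/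
def Hyp : Prop :=
  ∀ (D : Type u) [CommRing D] (g : A0 →+* D), g.Etale →
    ∀ (K : Type u) [Field K] [IsAlgClosed K] (α : Ba →+* K) (β : Bb →+* K) (γ' : D →+* K),
      α.comp ha = γ'.comp g → β.comp hb = γ'.comp g →
      ∃ (Ω : Type u) (_ : Field Ω) (i1 i2 : K →+* Ω) (ρ : Spec (.of Ω) ⟶ R),
        ρ ≫ s = Spec.map (CommRingCat.ofHom (i1.comp α)) ∧
        ρ ≫ t = Spec.map (CommRingCat.ofHom (i2.comp β)) ∧
        i1.comp γ' = i2.comp γ'

theorem isIntegral_of_hyp [Etale s] (hfa : ha.FiniteType) (H : Hyp ha hb s t)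
    (K : Type u) [Field K] [IsAlgClosed K] (α : Ba →+* K) (β : Bb →+* K)
    (hαβ : α.comp ha = β.comp hb)
    (p : Ideal A0) [p.IsPrime] (ι : p.ResidueField →+* K)
    (hι : ι.comp (algebraMap A0 p.ResidueField) = β.comp hb) (b : Bb) :
    @IsIntegral p.ResidueField K _ _ ι.toAlgebra (β b) := by
  classical
  obtain ⟨α1, hα1, hα1int⟩ := exists_algebraic_point ha hfa α p ι (hι.trans hαβ.symm)
  obtain ⟨Ω, _, i1, i2, ρ, h1, h2, h3⟩ := H A0 (algebraMap A0 A0)
    (RingHom.etale_algebraMap.2 inferInstance) K α1 β (β.comp hb)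
    (by rw [hα1, hαβ]; rfl) rfl
  letI : Algebra p.ResidueField K := ι.toAlgebra
  letI : Algebra p.ResidueField Ω := (i2.comp ι).toAlgebra
  have hι12 : i1.comp ι = i2.comp ι := residueField_hom_ext p _ _ (by
    rw [RingHom.comp_assoc, RingHom.comp_assoc, hι]
    exact h3)
  let j2 : K →ₐ[p.ResidueField] Ω := { i2 with commutes' := fun x => rfl }
  let j1 : K →ₐ[p.ResidueField] Ω :=
    { i1 with commutes' := fun x => congrArg (fun f => f x) hι12 }
  rw [← isIntegral_algHom_iff j2 i2.injective]
  show IsIntegral p.ResidueField (i2 (β b))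
  have hz1 : i2 (β b) ∈ fod (ρ ≫ t) := by
    rw [h2, fod_spec]
    exact Subfield.subset_closure ⟨b, rfl⟩
  have hz2 : i2 (β b) ∈ fod ρ := fod_comp_le ρ t hz1
  obtain ⟨P, hPm, hP0⟩ := isIntegralElem_of_mem_fod s ρ _ hz2
  have hle : Subfield.closure (Set.range (i1.comp α1)) ≤
      (algebraicClosure p.ResidueField Ω).toSubfield := by
    rw [Subfield.closure_le]
    rintro _ ⟨a, rfl⟩
    show i1 (α1 a) ∈ algebraicClosure p.ResidueField Ω
    rw [mem_algebraicClosure_iff]
    exact (IsIntegral.map j1 (hα1int a)).isAlgebraic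
  have hrs : ∀ w, IsIntegral p.ResidueField ((emb (ρ ≫ s)).hom w) := by
    intro w
    obtain ⟨z', hz'⟩ : ∃ z', z' = (emb (ρ ≫ s)).hom w := ⟨_, rfl⟩
    have hw : z' ∈ fod (ρ ≫ s) := ⟨w, hz'.symm⟩
    rw [h1, fod_spec] at hw
    rw [← hz']
    have hw2 : z' ∈ algebraicClosure p.ResidueField Ω := hle hw
    exact (mem_algebraicClosure_iff.1 hw2).isIntegral
  let f := (emb (ρ ≫ s)).hom.codRestrict (integralClosure p.ResidueField Ω) (fun w => hrs w)
  have hcomp : (algebraMap (integralClosure p.ResidueField Ω) Ω).comp f = (emb (ρ ≫ s)).hom := by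
    ext w; rfl
  have hzI : IsIntegral (integralClosure p.ResidueField Ω) (i2 (β b)) := by
    refine ⟨P.map f, hPm.map f, ?_⟩
    rw [Polynomial.eval₂_map, hcomp]
    exact hP0
  exact isIntegral_trans (A := integralClosure p.ResidueField Ω) _ hzI

theorem core [Etale s] (hfa : ha.FiniteType) (hfb : hb.FiniteType) (H : Hyp ha hb s t)
    (K : Type u) [Field K] [IsAlgClosed K] (α : Ba →+* K) (β : Bb →+* K)
    (hαβ : α.comp ha = β.comp hb) :
    ∃ (Ω : Type u) (_ : Field Ω) (i : K →+* Ω) (ρ : Spec (.of Ω) ⟶ R),
      ρ ≫ s = Spec.map (CommRingCat.ofHom (i.comp α)) ∧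
      ρ ≫ t = Spec.map (CommRingCat.ofHom (i.comp β)) := by
  classical
  obtain ⟨γ, hγ⟩ : ∃ γ : A0 →+* K, γ = β.comp hb := ⟨_, rfl⟩
  obtain ⟨p, hp⟩ : ∃ p : Ideal A0, p = RingHom.ker γ := ⟨_, rfl⟩
  haveI : p.IsPrime := hp ▸ RingHom.ker_isPrime γ
  have hf1 : p ≤ RingHom.ker γ := le_of_eq hp
  have hf2 : p.primeCompl ≤ (IsUnit.submonoid K).comap γ := by
    intro x hx
    show IsUnit (γ x)
    refine IsUnit.mk0 _ (fun h0 => hx ?_)
    rw [hp]
    exact h0
  obtain ⟨ι, hιdef⟩ : ∃ ι : p.ResidueField →+* K, ι = Ideal.ResidueField.lift p γ hf1 hf2 :=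
    ⟨_, rfl⟩
  have hι : ι.comp (algebraMap A0 p.ResidueField) = γ := by
    refine RingHom.ext fun x => ?_
    show ι (algebraMap A0 _ x) = γ x
    rw [hιdef, Ideal.ResidueField.lift_algebraMap]
  letI : Algebra p.ResidueField K := ι.toAlgebra
  have hint : ∀ b, IsIntegral p.ResidueField (β b) := fun b =>
    isIntegral_of_hyp ha hb s t hfa H K α β hαβ p ι (hι.trans hγ) b
  letI : Algebra A0 Bb := hb.toAlgebra
  haveI : Algebra.FiniteType A0 Bb := hfb
  obtain ⟨T, hT⟩ := (Algebra.FiniteType.out : (⊤ : Subalgebra A0 Bb).FG)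
  let E : IntermediateField p.ResidueField K :=
    IntermediateField.adjoin p.ResidueField (β '' (T : Set Bb))
  haveI : Finite ↑(β '' (T : Set Bb)) := (T.finite_toSet.image β).to_subtype
  haveI : FiniteDimensional p.ResidueField E :=
    IntermediateField.finiteDimensional_adjoin (fun x hx => by
      obtain ⟨b, _, rfl⟩ := hx
      exact hint b)
  haveI : Algebra.IsAlgebraic p.ResidueField E := Algebra.IsAlgebraic.of_finite _ _
  have hβE : ∀ b, β b ∈ E := by
    intro b
    have hb' : b ∈ Algebra.adjoin A0 (T : Set Bb) := by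
      rw [hT]
      exact Algebra.mem_top
    induction hb' using Algebra.adjoin_induction with
    | mem x hx => exact IntermediateField.subset_adjoin _ _ ⟨x, hx, rfl⟩
    | algebraMap r =>
      have h5 : β (algebraMap A0 Bb r) =
          algebraMap p.ResidueField K (algebraMap A0 p.ResidueField r) := by
        show (β.comp hb) r = ι (algebraMap A0 _ r)
        rw [← hγ, ← hι]
        rfl
      rw [h5]
      exact E.algebraMap_mem _
    | add x y _ _ hx hy =>
      rw [map_add]
      exact E.add_mem hx hy
    | mul x y _ _ hx hy =>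
      rw [map_mul]
      exact E.mul_mem hx hy
  -- the separable closure
  haveI : Module.Finite p.ResidueField (separableClosure p.ResidueField E) :=
    IntermediateField.finiteDimensional_left _
  letI : Algebra A0 (separableClosure p.ResidueField E) :=
    ((algebraMap p.ResidueField (separableClosure p.ResidueField E)).comp
      (algebraMap A0 p.ResidueField)).toAlgebra
  haveI : IsScalarTower A0 p.ResidueField (separableClosure p.ResidueField E) :=
    IsScalarTower.of_algebraMap_eq (fun _ => rfl)
  obtain ⟨P, ψ, hψ⟩ := Groth.Agent.Helper7.EtaleRes.exists_etale_generating p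
    (separableClosure p.ResidueField E)
  let incl : (separableClosure p.ResidueField E) →+* K :=
    (algebraMap E K).comp (algebraMap (separableClosure p.ResidueField E) E)
  let γ' : P.Ring →+* K := incl.comp ψ.toRingHom
  have hγ' : γ'.comp (algebraMap A0 P.Ring) = γ := by
    refine RingHom.ext fun x => ?_
    show incl (ψ (algebraMap A0 P.Ring x)) = γ x
    rw [ψ.commutes]
    show (algebraMap E K) (algebraMap (separableClosure p.ResidueField E) E
      (algebraMap p.ResidueField (separableClosure p.ResidueField E)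
        (algebraMap A0 p.ResidueField x))) = γ x
    rw [← IsScalarTower.algebraMap_apply p.ResidueField (separableClosure p.ResidueField E) E,
      ← IsScalarTower.algebraMap_apply p.ResidueField E K]
    show ι (algebraMap A0 _ x) = γ x
    rw [← hι]
    rfl
  obtain ⟨Ω, _, i1, i2, ρ, h1, h2, h3⟩ := H P.Ring (algebraMap A0 P.Ring)
    (RingHom.etale_algebraMap.2 inferInstance) K α β γ'
    (by rw [hγ', hαβ, hγ]) (by rw [hγ', hγ])
  have hEs : ∀ l : separableClosure p.ResidueField E, i1 (incl l) = i2 (incl l) := by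
    have hle : Subfield.closure (Set.range ψ) ≤
        RingHom.eqLocusField (i1.comp incl) (i2.comp incl) := by
      rw [Subfield.closure_le]
      rintro _ ⟨d, rfl⟩
      exact congrArg (fun f => f d) h3
    rw [hψ] at hle
    intro l
    exact hle (Subfield.mem_top l)
  obtain ⟨q, hq⟩ := ExpChar.exists p.ResidueField
  haveI := hq
  haveI : ExpChar (separableClosure p.ResidueField E) q :=
    expChar_of_injective_ringHom
      (algebraMap p.ResidueField (separableClosure p.ResidueField E)).injective q
  haveI : ExpChar Ω q := expChar_of_injective_ringHom (i1.comp ι).injective q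
  have hβ12 : i1.comp β = i2.comp β := by
    refine RingHom.ext fun b => ?_
    show i1 (β b) = i2 (β b)
    obtain ⟨n, l, hl⟩ := IsPurelyInseparable.pow_mem (separableClosure p.ResidueField E) q
      (⟨β b, hβE b⟩ : E)
    have hl' : incl l = (β b) ^ q ^ n := by
      show algebraMap E K (algebraMap (separableClosure p.ResidueField E) E l) = _
      rw [hl]
      rfl
    have h4 := hEs l
    rw [hl', map_pow, map_pow] at h4
    apply iterateFrobenius_inj Ω q n
    rw [iterateFrobenius_def, iterateFrobenius_def]
    exact h4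
  refine ⟨Ω, inferInstance, i1, ρ, h1, ?_⟩
  rw [h2, hβ12]

end Core

end Groth.Agent.Helper2.UnivInj
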