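import Mathlib
import Groth.Agent.Lib.Helper2.UnivInj.Core
import Groth.Agent.Lib.Helper2.RefVC.Reduce
import Groth.Agent.Lib.Helper2.AlgSp.FibreSpecB
import Groth.Agent.Lib.Helper2.AlgSp.LargeField
import Groth.Agent.Lib.Helper2.AlgSp.GeomConnCount
import Groth.Agent.Lib.Helper2.AlgSp.FieldQuot
import Groth.Agent.Lib.Helper2.AlgSp.Diag

set_option backward.isDefEq.respectTransparency.types false
set_option autoImplicit false
set_option synthInstance.maxHeartbeats 400000
set_option maxHeartbeats 4000000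
set_option linter.style.haveILetI false
set_option linter.unusedSectionVars false
set_option linter.unusedVariables false
set_option linter.unusedSimpArgs false
set_option linter.unnecessarySimpa false

/-!
# S10601: universal injectivity from injectivity after etale base change (glue to `Core`)
-/

universe u
open CategoryTheory CategoryTheory.Limits AlgebraicGeometry Opposite AlgSp
open Groth.Agent.Helper2.AlgSpBasic

namespace Groth.Agent.Helper2.UnivInj

variable {S : Scheme.{u}}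

/-- An etale chart in `Spec` form through a given point. -/
theorem exists_spec_chart {X : Sp S} (hX : IsAlgSpace X) (x : Points X) :
    ∃ (A : Type u) (_ : CommRing A) (sA : Spec (CommRingCat.of A) ⟶ S)
      (b : (yon S).obj (Over.mk sA) ⟶ X), RepWith @Etale b ∧ ∃ v, Points.ofPt b v = x := by
  obtain ⟨V1, b1, hV1, hb1, v1, hv1⟩ :=
    Groth.Agent.Helper2.FibreSpecB.exists_affine_chart_through hX x
  haveI := hV1
  let e : Over.mk (V1.left.isoSpec.inv ≫ V1.hom) ≅ V1 :=
    Over.isoMk (f := Over.mk (V1.left.isoSpec.inv ≫ V1.hom)) (g := V1) V1.left.isoSpec.symm rfl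
  haveI : IsIso e.hom.left := inferInstanceAs (IsIso ((Over.forget S).map e.hom))
  refine ⟨↑Γ(V1.left, ⊤), inferInstance, V1.left.isoSpec.inv ≫ V1.hom, (yon S).map e.hom ≫ b1,
    ?_, e.inv.left v1, ?_⟩
  · exact repWith_comp @Etale ((repWith_yon_map_iff @Etale e.hom).mpr inferInstance) hb1
  · rw [ofPt_yon_map_comp]
    have h1 : e.hom.left (e.inv.left v1) = v1 := by
      rw [← Scheme.Hom.comp_apply, ← Over.comp_left, e.inv_hom_id]
      rfl
    rw [h1]
    exact hv1

/-- An etale chart in `Spec` form, relative to an affine base, through a given point. -/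
theorem exists_spec_chart_over {P : Sp S} (hP : IsAlgSpace P) {C : Type u} [CommRing C]
    (sC : Spec (CommRingCat.of C) ⟶ S) (q : P ⟶ (yon S).obj (Over.mk sC)) (x : Points P) :
    ∃ (B : Type u) (_ : CommRing B) (φ : C →+* B)
      (π : (yon S).obj (Over.mk (Spec.map (CommRingCat.ofHom φ) ≫ sC)) ⟶ P),
      RepWith @Etale π ∧
      π ≫ q = (yon S).map (Over.homMk (Spec.map (CommRingCat.ofHom φ)) rfl :
        Over.mk (Spec.map (CommRingCat.ofHom φ) ≫ sC) ⟶ Over.mk sC) ∧
      ∃ u, Points.ofPt π u = x := by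
  obtain ⟨U1, π1, hU1, hπ1, u1, hu1⟩ :=
    Groth.Agent.Helper2.FibreSpecB.exists_affine_chart_through hP x
  haveI := hU1
  obtain ⟨fT, hfT⟩ := (yon S).map_surjective (π1 ≫ q)
  obtain ⟨B, _, φ, e, he, -⟩ := Groth.Agent.Helper2.RefVC.exists_spec_form sC U1 fT
  haveI : IsIso e.hom.left := inferInstanceAs (IsIso ((Over.forget S).map e.hom))
  refine ⟨B, inferInstance, φ, (yon S).map e.hom ≫ π1, ?_, ?_, e.inv.left u1, ?_⟩
  · exact repWith_comp @Etale ((repWith_yon_map_iff @Etale e.hom).mpr inferInstance) hπ1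
  · rw [Category.assoc, ← hfT, ← Functor.map_comp, he]
  · rw [ofPt_yon_map_comp]
    have h1 : e.hom.left (e.inv.left u1) = u1 := by
      rw [← Scheme.Hom.comp_apply, ← Over.comp_left, e.inv_hom_id]
      rfl
    rw [h1]
    exact hu1

/-- The key statement: two geometric points of `X` over the same geometric point of `Y` agree
after a field extension. -/
theorem key {X Y : Space S} (f : X ⟶ Y) (hft : LocP @LocallyOfFiniteType f.hom)
    (hinj : ∀ (V : Space S) (g : V ⟶ Y), IsEtaleMor g.hom → ∀ (P : Sp S) (fst : P ⟶ X.obj)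
      (snd : P ⟶ V.obj), IsPullback fst snd f.hom g.hom → Function.Injective (Points.map snd))
    (K : Type u) [Field K] [IsAlgClosed K] (strK : Spec (CommRingCat.of K) ⟶ S)
    (a b : (yon S).obj (Over.mk strK) ⟶ X.obj) (hab : a ≫ f.hom = b ≫ f.hom) :
    ∃ (Ω : Type u) (_ : Field Ω) (i : K →+* Ω),
      (yon S).map (Over.homMk (Spec.map (CommRingCat.ofHom i)) rfl :
        Over.mk (Spec.map (CommRingCat.ofHom i) ≫ strK) ⟶ Over.mk strK) ≫ a =
      (yon S).map (Over.homMk (Spec.map (CommRingCat.ofHom i)) rfl :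
        Over.mk (Spec.map (CommRingCat.ofHom i) ≫ strK) ⟶ Over.mk strK) ≫ b := by
  have hX := X.property
  have hY := Y.property
  have hKc : IsAlgClosed K := inferInstance
  -- chart of Y
  obtain ⟨pY, hpYdef⟩ : ∃ pY : FieldPt Y.obj, pY = fieldPtOfHom strK (a ≫ f.hom) := ⟨_, rfl⟩
  have hpYhom : (fieldPtOfHom strK (a ≫ f.hom)).toHom = a ≫ f.hom :=
    Groth.Agent.Helper2.FieldQuot.toHom_fieldPtOfHom _ _
  obtain ⟨A0, _, sA, bY, hbYe, v0, hv0⟩ :=
    exists_spec_chart hY (Points.mk (fieldPtOfHom strK (a ≫ f.hom)))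
  obtain ⟨lY0, hlY0, -⟩ := Groth.Agent.Helper2.LargeField.exists_lift_through bY hbYe
    (fieldPtOfHom strK (a ≫ f.hom)) hKc v0 hv0
  obtain ⟨lY, hlYdef⟩ : ∃ lY : Over.mk strK ⟶ Over.mk sA, lY = lY0 := ⟨lY0, rfl⟩
  have hlY : (yon S).map lY ≫ bY = a ≫ f.hom := by
    rw [hlYdef]
    exact hlY0.trans hpYhom
  -- the base change P
  have sqP := IsPullback.of_hasPullback f.hom bY
  have hP : IsAlgSpace (pullback f.hom bY) :=
    isAlgSpace_of_isPullback hY.diag hX (IsAlgSpace.yon_obj _) _ _ _ _ sqP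
  have hpfst : RepWith @Etale (pullback.fst f.hom bY) :=
    repWith_of_isPullback @Etale sqP.flip hbYe
  obtain ⟨a', ha'1, ha'2⟩ : ∃ a' : (yon S).obj (Over.mk strK) ⟶ pullback f.hom bY,
      a' ≫ pullback.fst f.hom bY = a ∧ a' ≫ pullback.snd f.hom bY = (yon S).map lY :=
    ⟨pullback.lift a ((yon S).map lY) hlY.symm, pullback.lift_fst _ _ _, pullback.lift_snd _ _ _⟩
  obtain ⟨b', hb'1, hb'2⟩ : ∃ b' : (yon S).obj (Over.mk strK) ⟶ pullback f.hom bY,
      b' ≫ pullback.fst f.hom bY = b ∧ b' ≫ pullback.snd f.hom bY = (yon S).map lY :=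
    ⟨pullback.lift b ((yon S).map lY) (by rw [hlY, hab]), pullback.lift_fst _ _ _,
      pullback.lift_snd _ _ _⟩
  -- charts of P through a', b'
  obtain ⟨Ba, _, φa, πa, hπae, hπaq, ua, hua⟩ := exists_spec_chart_over hP sA
    (pullback.snd f.hom bY) (Points.mk (fieldPtOfHom strK a'))
  obtain ⟨la0, hla0, -⟩ := Groth.Agent.Helper2.LargeField.exists_lift_through πa hπae
    (fieldPtOfHom strK a') hKc ua hua
  obtain ⟨la, hladef⟩ : ∃ la : Over.mk strK ⟶ Over.mk (Spec.map (CommRingCat.ofHom φa) ≫ sA),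
    la = la0 := ⟨la0, rfl⟩
  have hla : (yon S).map la ≫ πa = a' := by
    rw [hladef]
    exact hla0.trans (Groth.Agent.Helper2.FieldQuot.toHom_fieldPtOfHom _ _)
  obtain ⟨Bb, _, φb, πb, hπbe, hπbq, ub, hub⟩ := exists_spec_chart_over hP sA
    (pullback.snd f.hom bY) (Points.mk (fieldPtOfHom strK b'))
  obtain ⟨lb0, hlb0, -⟩ := Groth.Agent.Helper2.LargeField.exists_lift_through πb hπbe
    (fieldPtOfHom strK b') hKc ub hub
  obtain ⟨lb, hlbdef⟩ : ∃ lb : Over.mk strK ⟶ Over.mk (Spec.map (CommRingCat.ofHom φb) ≫ sA),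
    lb = lb0 := ⟨lb0, rfl⟩
  have hlb : (yon S).map lb ≫ πb = b' := by
    rw [hlbdef]
    exact hlb0.trans (Groth.Agent.Helper2.FieldQuot.toHom_fieldPtOfHom _ _)
  -- finite type
  have hfa : φa.FiniteType := by
    have h1 : LocallyOfFiniteType (Spec.map (CommRingCat.ofHom φa)) :=
      hft (πa ≫ pullback.fst f.hom bY) bY
        (Over.homMk (Spec.map (CommRingCat.ofHom φa)) rfl :
          Over.mk (Spec.map (CommRingCat.ofHom φa) ≫ sA) ⟶ Over.mk sA)
        (repWith_comp @Etale hπae hpfst) hbYe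
        (by rw [Category.assoc, pullback.condition, ← Category.assoc, hπaq])
    exact (HasRingHomProperty.Spec_iff (P := @LocallyOfFiniteType)).1 h1
  have hfb : φb.FiniteType := by
    have h1 : LocallyOfFiniteType (Spec.map (CommRingCat.ofHom φb)) :=
      hft (πb ≫ pullback.fst f.hom bY) bY
        (Over.homMk (Spec.map (CommRingCat.ofHom φb)) rfl :
          Over.mk (Spec.map (CommRingCat.ofHom φb) ≫ sA) ⟶ Over.mk sA)
        (repWith_comp @Etale hπbe hpfst) hbYe
        (by rw [Category.assoc, pullback.condition, ← Category.assoc, hπbq])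
    exact (HasRingHomProperty.Spec_iff (P := @LocallyOfFiniteType)).1 h1
  -- the ring maps of the two geometric points
  obtain ⟨α, hα⟩ : ∃ α : Ba →+* K, Spec.map (CommRingCat.ofHom α) = la.left :=
    ⟨(Spec.preimage la.left).hom, Spec.map_preimage _⟩
  obtain ⟨β, hβ⟩ : ∃ β : Bb →+* K, Spec.map (CommRingCat.ofHom β) = lb.left :=
    ⟨(Spec.preimage lb.left).hom, Spec.map_preimage _⟩
  have hlaY : la ≫ (Over.homMk (Spec.map (CommRingCat.ofHom φa)) rfl :
      Over.mk (Spec.map (CommRingCat.ofHom φa) ≫ sA) ⟶ Over.mk sA) = lY := by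
    apply (yon S).map_injective
    rw [Functor.map_comp, ← hπaq, ← Category.assoc, hla, ha'2]
  have hlbY : lb ≫ (Over.homMk (Spec.map (CommRingCat.ofHom φb)) rfl :
      Over.mk (Spec.map (CommRingCat.ofHom φb) ≫ sA) ⟶ Over.mk sA) = lY := by
    apply (yon S).map_injective
    rw [Functor.map_comp, ← hπbq, ← Category.assoc, hlb, hb'2]
  have hαβ : α.comp φa = β.comp φb := by
    have h3 : la.left ≫ Spec.map (CommRingCat.ofHom φa) =
        lb.left ≫ Spec.map (CommRingCat.ofHom φb) :=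
      congrArg (fun m => m.left) (hlaY.trans hlbY.symm)
    rw [← hα, ← hβ, ← Spec.map_comp, ← Spec.map_comp] at h3
    exact congrArg CommRingCat.Hom.hom (Spec.map_injective h3)
  -- the relation scheme
  obtain ⟨R, s, t, sqR⟩ := Groth.Agent.Helper2.AlgSpBasic.exists_isPullback_yon hP.diag πa πb
  haveI hs : Etale s.left := hπbe.property πa ((yon S).map t) s sqR.flip
  -- the hypothesis of the core
  have H : Hyp φa φb s.left t.left := by
    intro D _ g hg K' _ _ α' β' γ' h1 h2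
    haveI hgE : Etale (Spec.map (CommRingCat.ofHom g)) :=
      (HasRingHomProperty.Spec_iff (P := @Etale)).2 hg
    obtain ⟨gV, hgV⟩ : ∃ gV : Over.mk (Spec.map (CommRingCat.ofHom g) ≫ sA) ⟶ Over.mk sA,
      gV = Over.homMk (Spec.map (CommRingCat.ofHom g)) rfl := ⟨_, rfl⟩
    have hgVl : gV.left = Spec.map (CommRingCat.ofHom g) := by rw [hgV]; rfl
    have hbD : RepWith @Etale ((yon S).map gV ≫ bY) :=
      repWith_comp @Etale ((repWith_yon_map_iff @Etale gV).mpr (by rw [hgVl]; exact hgE)) hbYe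
    have hi := hinj ⟨(yon S).obj (Over.mk (Spec.map (CommRingCat.ofHom g) ≫ sA)),
        IsAlgSpace.yon_obj _⟩ (ObjectProperty.homMk ((yon S).map gV ≫ bY))
      (fun U φ hφ => repWith_comp @Etale hφ hbD)
      (pullback f.hom ((yon S).map gV ≫ bY)) (pullback.fst _ _) (pullback.snd _ _)
      (IsPullback.of_hasPullback _ _)
    -- the K'-points
    obtain ⟨strK', hstrK'⟩ : ∃ strK' : Spec (CommRingCat.of K') ⟶ S,
      strK' = Spec.map (CommRingCat.ofHom γ') ≫ (Spec.map (CommRingCat.ofHom g) ≫ sA) :=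
      ⟨_, rfl⟩
    have hwa : Spec.map (CommRingCat.ofHom α') ≫ (Spec.map (CommRingCat.ofHom φa) ≫ sA) =
        strK' := by
      rw [hstrK', ← Category.assoc, ← Category.assoc, ← Spec.map_comp, ← Spec.map_comp,
        ← CommRingCat.ofHom_comp, ← CommRingCat.ofHom_comp, h1]
    have hwb : Spec.map (CommRingCat.ofHom β') ≫ (Spec.map (CommRingCat.ofHom φb) ≫ sA) =
        strK' := by
      rw [hstrK', ← Category.assoc, ← Category.assoc, ← Spec.map_comp, ← Spec.map_comp,
        ← CommRingCat.ofHom_comp, ← CommRingCat.ofHom_comp, h2]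
    obtain ⟨γt, hγt⟩ : ∃ γt : Over.mk strK' ⟶ Over.mk (Spec.map (CommRingCat.ofHom g) ≫ sA),
      γt.left = Spec.map (CommRingCat.ofHom γ') :=
      ⟨Over.homMk (Spec.map (CommRingCat.ofHom γ')) hstrK'.symm, rfl⟩
    obtain ⟨αt, hαt⟩ : ∃ αt : Over.mk strK' ⟶ Over.mk (Spec.map (CommRingCat.ofHom φa) ≫ sA),
      αt.left = Spec.map (CommRingCat.ofHom α') :=
      ⟨Over.homMk (Spec.map (CommRingCat.ofHom α')) hwa, rfl⟩
    obtain ⟨βt, hβt⟩ : ∃ βt : Over.mk strK' ⟶ Over.mk (Spec.map (CommRingCat.ofHom φb) ≫ sA),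
      βt.left = Spec.map (CommRingCat.ofHom β') :=
      ⟨Over.homMk (Spec.map (CommRingCat.ofHom β')) hwb, rfl⟩
    have hαg : αt ≫ (Over.homMk (Spec.map (CommRingCat.ofHom φa)) rfl :
        Over.mk (Spec.map (CommRingCat.ofHom φa) ≫ sA) ⟶ Over.mk sA) = γt ≫ gV := by
      apply Over.OverMorphism.ext
      rw [Over.comp_left, Over.comp_left, hαt, hγt, hgVl]
      show Spec.map (CommRingCat.ofHom α') ≫ Spec.map (CommRingCat.ofHom φa) = _
      rw [← Spec.map_comp, ← Spec.map_comp, ← CommRingCat.ofHom_comp, ← CommRingCat.ofHom_comp, h1]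
    have hβg : βt ≫ (Over.homMk (Spec.map (CommRingCat.ofHom φb)) rfl :
        Over.mk (Spec.map (CommRingCat.ofHom φb) ≫ sA) ⟶ Over.mk sA) = γt ≫ gV := by
      apply Over.OverMorphism.ext
      rw [Over.comp_left, Over.comp_left, hβt, hγt, hgVl]
      show Spec.map (CommRingCat.ofHom β') ≫ Spec.map (CommRingCat.ofHom φb) = _
      rw [← Spec.map_comp, ← Spec.map_comp, ← CommRingCat.ofHom_comp, ← CommRingCat.ofHom_comp, h2]
    have ea : ((yon S).map αt ≫ πa ≫ pullback.fst f.hom bY) ≫ f.hom =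
        (yon S).map γt ≫ ((yon S).map gV ≫ bY) := by
      rw [Category.assoc, Category.assoc, pullback.condition, ← Category.assoc πa, hπaq,
        ← Category.assoc, ← Functor.map_comp, hαg, Functor.map_comp, Category.assoc]
    have eb : ((yon S).map βt ≫ πb ≫ pullback.fst f.hom bY) ≫ f.hom =
        (yon S).map γt ≫ ((yon S).map gV ≫ bY) := by
      rw [Category.assoc, Category.assoc, pullback.condition, ← Category.assoc πb, hπbq,
        ← Category.assoc, ← Functor.map_comp, hβg, Functor.map_comp, Category.assoc]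
    obtain ⟨aD, haD1, haD2⟩ : ∃ aD : (yon S).obj (Over.mk strK') ⟶
        pullback f.hom ((yon S).map gV ≫ bY),
        aD ≫ pullback.fst _ _ = (yon S).map αt ≫ πa ≫ pullback.fst f.hom bY ∧
        aD ≫ pullback.snd _ _ = (yon S).map γt :=
      ⟨pullback.lift _ _ ea, pullback.lift_fst _ _ _, pullback.lift_snd _ _ _⟩
    obtain ⟨bD, hbD1, hbD2⟩ : ∃ bD : (yon S).obj (Over.mk strK') ⟶
        pullback f.hom ((yon S).map gV ≫ bY),
        bD ≫ pullback.fst _ _ = (yon S).map βt ≫ πb ≫ pullback.fst f.hom bY ∧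
        bD ≫ pullback.snd _ _ = (yon S).map γt :=
      ⟨pullback.lift _ _ eb, pullback.lift_fst _ _ _, pullback.lift_snd _ _ _⟩
    have hpt : Points.ofPt aD (IsLocalRing.closedPoint K') =
        Points.ofPt bD (IsLocalRing.closedPoint K') := by
      apply hi
      show Points.map (pullback.snd f.hom ((yon S).map gV ≫ bY)) _ =
        Points.map (pullback.snd f.hom ((yon S).map gV ≫ bY)) _
      rw [Points.map_ofPt, Points.map_ofPt, haD2, hbD2]
    rw [← Groth.Agent.Helper2.FieldQuot.mk_fieldPtOfHom strK' aD,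
      ← Groth.Agent.Helper2.FieldQuot.mk_fieldPtOfHom strK' bD] at hpt
    obtain ⟨Ω, _, w, j10, j20, hj0⟩ :=
      Groth.Agent.Helper2.GeomConnCount.exists_common_of_mk_eq _ _ hpt
    rw [Groth.Agent.Helper2.FieldQuot.toHom_fieldPtOfHom,
      Groth.Agent.Helper2.FieldQuot.toHom_fieldPtOfHom] at hj0
    obtain ⟨j1, hj1⟩ : ∃ j1 : Over.mk w ⟶ Over.mk strK', j1 = j10 := ⟨j10, rfl⟩
    obtain ⟨j2, hj2⟩ : ∃ j2 : Over.mk w ⟶ Over.mk strK', j2 = j20 := ⟨j20, rfl⟩
    have hj : (yon S).map j1 ≫ aD = (yon S).map j2 ≫ bD := by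
      rw [hj1, hj2]
      exact hj0
    obtain ⟨i1, hi1⟩ : ∃ i1 : K' →+* Ω, Spec.map (CommRingCat.ofHom i1) = j1.left :=
      ⟨(Spec.preimage j1.left).hom, Spec.map_preimage _⟩
    obtain ⟨i2, hi2⟩ : ∃ i2 : K' →+* Ω, Spec.map (CommRingCat.ofHom i2) = j2.left :=
      ⟨(Spec.preimage j2.left).hom, Spec.map_preimage _⟩
    -- equality over V
    have hjγ : j1 ≫ γt = j2 ≫ γt := by
      apply (yon S).map_injective
      rw [Functor.map_comp, Functor.map_comp]
      calc (yon S).map j1 ≫ (yon S).map γt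
          = (yon S).map j1 ≫ aD ≫ pullback.snd f.hom ((yon S).map gV ≫ bY) := by rw [haD2]
        _ = (yon S).map j2 ≫ bD ≫ pullback.snd f.hom ((yon S).map gV ≫ bY) := by
            rw [← Category.assoc, hj, Category.assoc]
        _ = (yon S).map j2 ≫ (yon S).map γt := by rw [hbD2]
    -- equality in P
    have hjP : (yon S).map (j1 ≫ αt) ≫ πa = (yon S).map (j2 ≫ βt) ≫ πb := by
      apply pullback.hom_ext
      · rw [Category.assoc, Category.assoc, Functor.map_comp, Functor.map_comp, Category.assoc,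
          Category.assoc, ← haD1, ← hbD1, ← Category.assoc, ← Category.assoc, hj]
      · rw [Category.assoc, Category.assoc, hπaq, hπbq, ← Functor.map_comp, ← Functor.map_comp,
          Category.assoc, Category.assoc, hαg, hβg, ← Category.assoc, ← Category.assoc, hjγ]
    obtain ⟨ρ', hρ'1, hρ'2⟩ : ∃ ρ' : (yon S).obj (Over.mk w) ⟶ (yon S).obj R,
        ρ' ≫ (yon S).map s = (yon S).map (j1 ≫ αt) ∧ ρ' ≫ (yon S).map t = (yon S).map (j2 ≫ βt) :=
      ⟨sqR.lift _ _ hjP, sqR.lift_fst _ _ _, sqR.lift_snd _ _ _⟩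
    obtain ⟨ρt, hρt⟩ := (yon S).map_surjective ρ'
    have hρs : ρt ≫ s = j1 ≫ αt := by
      apply (yon S).map_injective
      rw [Functor.map_comp, hρt, hρ'1]
    have hρt' : ρt ≫ t = j2 ≫ βt := by
      apply (yon S).map_injective
      rw [Functor.map_comp, hρt, hρ'2]
    refine ⟨Ω, inferInstance, i1, i2, ρt.left, ?_, ?_, ?_⟩
    · have h5 := congrArg (fun m => m.left) hρs
      simp only [Over.comp_left] at h5
      rw [h5, hαt, ← hi1, ← Spec.map_comp, ← CommRingCat.ofHom_comp]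
    · have h5 := congrArg (fun m => m.left) hρt'
      simp only [Over.comp_left] at h5
      rw [h5, hβt, ← hi2, ← Spec.map_comp, ← CommRingCat.ofHom_comp]
    · have h5 := congrArg (fun m => m.left) hjγ
      simp only [Over.comp_left] at h5
      rw [hγt, ← hi1, ← hi2, ← Spec.map_comp, ← Spec.map_comp] at h5
      exact congrArg CommRingCat.Hom.hom (Spec.map_injective h5)
  -- apply the core
  obtain ⟨Ω, _, i, ρ, hρs, hρt⟩ := core φa φb s.left t.left hfa hfb H K α β hαβ
  refine ⟨Ω, inferInstance, i, ?_⟩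
  obtain ⟨jΩ, hjΩ⟩ : ∃ jΩ : Over.mk (Spec.map (CommRingCat.ofHom i) ≫ strK) ⟶ Over.mk strK,
    jΩ = Over.homMk (Spec.map (CommRingCat.ofHom i)) rfl := ⟨_, rfl⟩
  have hjΩl : jΩ.left = Spec.map (CommRingCat.ofHom i) := by rw [hjΩ]; rfl
  rw [← hjΩ]
  have hρw : ρ ≫ R.hom = Spec.map (CommRingCat.ofHom i) ≫ strK := by
    have h6 : s.left ≫ (Spec.map (CommRingCat.ofHom φa) ≫ sA) = R.hom := Over.w s
    have h7 : la.left ≫ (Spec.map (CommRingCat.ofHom φa) ≫ sA) = strK := Over.w la
    rw [← h6, ← Category.assoc, hρs, CommRingCat.ofHom_comp, Spec.map_comp, Category.assoc, hα, h7]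
  obtain ⟨ρt, hρtl⟩ : ∃ ρt : Over.mk (Spec.map (CommRingCat.ofHom i) ≫ strK) ⟶ R, ρt.left = ρ :=
    ⟨Over.homMk ρ hρw, rfl⟩
  have e1 : ρt ≫ s = jΩ ≫ la := by
    apply Over.OverMorphism.ext
    rw [Over.comp_left, Over.comp_left, hρtl, hρs, hjΩl, CommRingCat.ofHom_comp, Spec.map_comp, hα]
  have e2 : ρt ≫ t = jΩ ≫ lb := by
    apply Over.OverMorphism.ext
    rw [Over.comp_left, Over.comp_left, hρtl, hρt, hjΩl, CommRingCat.ofHom_comp, Spec.map_comp, hβ]
  have e3 : (yon S).map jΩ ≫ a' = (yon S).map jΩ ≫ b' := by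
    rw [← hla, ← hlb, ← Category.assoc, ← Category.assoc, ← Functor.map_comp, ← Functor.map_comp,
      ← e1, ← e2, Functor.map_comp, Functor.map_comp, Category.assoc, Category.assoc, sqR.w]
  rw [← ha'1, ← hb'1, ← Category.assoc, ← Category.assoc, e3]

/-- The diagonal is surjective. -/
theorem main {X Y : Space S} (f : X ⟶ Y) (hft : LocP @LocallyOfFiniteType f.hom)
    (hinj : ∀ (V : Space S) (g : V ⟶ Y), IsEtaleMor g.hom → ∀ (P : Sp S) (fst : P ⟶ X.obj)
      (snd : P ⟶ V.obj), IsPullback fst snd f.hom g.hom → Function.Injective (Points.map snd)) :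
    IsSurjectiveMor (pullback.diagonal f.hom) := by
  have hX := X.property
  have hY := Y.property
  have hXX : IsAlgSpace (pullback f.hom f.hom) :=
    isAlgSpace_of_isPullback hY.diag hX hX _ _ _ _ (IsPullback.of_hasPullback _ _)
  intro z
  obtain ⟨W, c, hce, hcs⟩ := hXX.atlas
  obtain ⟨w, rfl⟩ := surjective_ofPt c hcs z
  obtain ⟨φK, hφK⟩ : ∃ φK : W.left.residueField w ⟶
      CommRingCat.of (AlgebraicClosure (W.left.residueField w)),
      φK = CommRingCat.ofHom (algebraMap ↥(W.left.residueField w)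
        (AlgebraicClosure ↥(W.left.residueField w))) := ⟨_, rfl⟩
  obtain ⟨strK, hstrK⟩ : ∃ strK : Spec (CommRingCat.of (AlgebraicClosure (W.left.residueField w))) ⟶ S,
      strK = (Spec.map φK ≫ W.left.fromSpecResidueField w) ≫ W.hom := ⟨_, rfl⟩
  obtain ⟨ζ, hζ⟩ : ∃ ζ : Over.mk strK ⟶ W,
      ζ.left = Spec.map φK ≫ W.left.fromSpecResidueField w :=
    ⟨Over.homMk (Spec.map φK ≫ W.left.fromSpecResidueField w) hstrK.symm, rfl⟩
  have hζw : ∀ x, ζ.left x = w := by
    intro x
    rw [hζ, Scheme.Hom.comp_apply]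
    exact Scheme.fromSpecResidueField_apply _ _
  have hab : ((yon S).map ζ ≫ c ≫ pullback.fst f.hom f.hom) ≫ f.hom =
      ((yon S).map ζ ≫ c ≫ pullback.snd f.hom f.hom) ≫ f.hom := by
    rw [Category.assoc, Category.assoc, Category.assoc, Category.assoc, pullback.condition]
  obtain ⟨Ω, _, i, hΩ⟩ := key f hft hinj (AlgebraicClosure (W.left.residueField w)) strK
    ((yon S).map ζ ≫ c ≫ pullback.fst f.hom f.hom) ((yon S).map ζ ≫ c ≫ pullback.snd f.hom f.hom)
    hab
  obtain ⟨jΩ, hjΩ⟩ : ∃ jΩ : Over.mk (Spec.map (CommRingCat.ofHom i) ≫ strK) ⟶ Over.mk strK,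
    jΩ = Over.homMk (Spec.map (CommRingCat.ofHom i)) rfl := ⟨_, rfl⟩
  rw [← hjΩ] at hΩ
  refine ⟨Points.ofPt ((yon S).map jΩ ≫ (yon S).map ζ ≫ c ≫ pullback.fst f.hom f.hom)
    (IsLocalRing.closedPoint Ω), ?_⟩
  rw [Points.map_ofPt]
  have h1 : ((yon S).map jΩ ≫ (yon S).map ζ ≫ c ≫ pullback.fst f.hom f.hom) ≫
      pullback.diagonal f.hom = (yon S).map (jΩ ≫ ζ) ≫ c := by
    apply pullback.hom_ext
    · rw [Category.assoc, pullback.diagonal_fst, Category.comp_id, Functor.map_comp]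
      simp only [Category.assoc]
    · rw [Category.assoc, pullback.diagonal_snd, Category.comp_id, hΩ, Functor.map_comp]
      simp only [Category.assoc]
  rw [h1, ofPt_yon_map_comp]
  congr 1
  show (jΩ ≫ ζ).left _ = w
  rw [Over.comp_left, Scheme.Hom.comp_apply]
  exact hζw _

/-- Surjectivity of the diagonal implies universal injectivity. -/
theorem isUnivInjectiveMor_of_diagonal {X Y : Sp S} (f : X ⟶ Y)
    (hs : IsSurjectiveMor (pullback.diagonal f)) : IsUnivInjectiveMor f := by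
  haveI hsbc : (IsSurjectiveMor (S := S)).IsStableUnderBaseChange :=
    ⟨fun {A B B' C} {p} {q} {p'} {q'} sq hq => isSurjectiveMor_of_isPullback q p p' q' sq hq⟩
  have L2 : ∀ {Z' Z : Sp S} (h : Z' ⟶ Z), IsSurjectiveMor (pullback.diagonal h) →
      Function.Injective (Points.map h) := by
    intro Z' Z h hs z₁ z₂ e
    obtain ⟨r, hr1, hr2⟩ := points_exists_of_isPullback h h (pullback.fst h h) (pullback.snd h h)
      (IsPullback.of_hasPullback h h) z₁ z₂ e
    obtain ⟨z, rfl⟩ := hs r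
    rw [← Points.map_comp, pullback.diagonal_fst, Points.map_id] at hr1
    rw [← Points.map_comp, pullback.diagonal_snd, Points.map_id] at hr2
    rw [← hr1, ← hr2]
  intro Z Z' hZ g fst snd sq
  apply L2
  have : (IsSurjectiveMor (S := S)).diagonal snd :=
    MorphismProperty.of_isPullback (P := (IsSurjectiveMor (S := S)).diagonal) sq hs
  exact this

end Groth.Agent.Helper2.UnivInj
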